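import Groth.Agent.Lib.SubTorus14.Glue
import Groth.Agent.Lib.SubTorus14.LocalImage
import Groth.Agent.Lib.Torsor21.DSPts
import Groth.Agent.Lib.MultDef14.SubTransporter
import Groth.Agent.Lib.QuotTorus14.Split
import Mathlib.Algebra.Module.Torsion.Basic
import Mathlib.AlgebraicGeometry.Morphisms.SchemeTheoreticallyDominant
import Groth.Agent.Lib.HomScheme.Dual
import Groth.Agent.Lib.EssFree.Subgroup
import Mathlib.LinearAlgebra.FreeModule.PID

/-!
The greatest subtorus of a group of multiplicative type: the stable image of the power maps.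
-/

set_option autoImplicit false
set_option backward.isDefEq.respectTransparency false

universe u

open CategoryTheory MonoidalCategory CartesianMonoidalCategory MonObj GrpObj AlgebraicGeometry
open CategoryTheory.Limits

noncomputable section

namespace GrothLib.MultMaxTorus14

open GrothLib.DiagGrp

variable {S : Scheme.{u}}

/-- The `k`-th power map. -/
def pw (H : Over S) [GrpObj H] (k : ℕ) : H ⟶ H := (𝟙 H) ^ k

theorem comp_pw {H X : Over S} [GrpObj H] (x : X ⟶ H) (k : ℕ) : x ≫ pw H k = x ^ k := by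
  rw [pw, MonObj.comp_pow, Category.comp_id]

theorem pw_comp {H G : Over S} [GrpObj H] [GrpObj G] (j : H ⟶ G) [IsMonHom j] (k : ℕ) :
    pw H k ≫ j = j ≫ pw G k := by
  rw [comp_pw, pw, MonObj.pow_comp, Category.id_comp]

theorem map_pw {W : Scheme.{u}} (f : W ⟶ S) (H : Over S) [GrpObj H] (k : ℕ) :
    (Over.pullback f).map (pw H k) = pw (Red.bc f H) k := by
  have h := map_pow (Functor.homMonoidHom (Over.pullback f) (X := H) (M := H)) (𝟙 H) k
  rw [pw, pw]
  refine h.trans ?_
  exact congrArg (fun t => t ^ k) ((Over.pullback f).map_id H)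

set_option backward.isDefEq.respectTransparency true in
theorem pw_DS (W : Scheme.{u}) (M : Type) [AddCommGroup M] (k : ℕ) :
    pw (Red.DS W M) k = Red.DSmap W (k • AddMonoidHom.id M) := by
  induction k with
  | zero =>
    rw [pw, pow_zero, zero_smul]
    exact ds_hom_ext fun C _ p χ => by
      rw [dsPoint_DSmap, MonObj.comp_one, ← map_one (dsPoint M p)]
      exact congrArg _ (MonoidHom.ext fun b => (map_one χ).symm)
  | succ k ih =>
    rw [succ_nsmul, GrothLib.HomScheme.DSmap_add, ← ih, pw, pw, pow_succ]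
    refine congrArg _ (ds_hom_ext fun C _ p χ => ?_)
    rw [dsPoint_DSmap, Category.comp_id]
    rfl

theorem quasiCompact_left {A B : Over S} [IsAffineHom A.hom] [IsAffineHom B.hom] (v : A ⟶ B) :
    QuasiCompact v.left := by
  haveI : IsAffineHom (v.left ≫ B.hom) := by rw [Over.w]; infer_instance
  haveI : IsAffineHom v.left := IsAffineHom.of_comp _ B.hom
  infer_instance

/-- Power maps of a torus are scheme theoretically dominant. -/
theorem dominant_pw {R : Over S} [GrpObj R] (hR : Red.IsTorus R) {k : ℕ} (hk : k ≠ 0) :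
    IsSchemeTheoreticallyDominant (pw R k).left := by
  obtain ⟨S', f, h1, h2, h3, h4⟩ := hR
  let Q : ∀ (M : Type), AddCommGroup M → Prop := fun M inst => @AddGroup.FG M inst.toAddGroup ∧
    ∀ x : M, (letI := inst; k • x) = (letI := inst; 0) → x = (letI := inst; 0)
  have hQ : HasChartsFpqc Q R := ⟨S', f, h1, h2, h3, fun s' => by
    obtain ⟨U, hU, r, e⟩ := h4 s'
    exact ⟨U, hU, _, _, ⟨fg_int_pi r, fun x hx => funext fun i => by
      have := congrFun hx i
      simpa [hk] using this⟩, e⟩⟩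
  have hchart : ∀ {W : Scheme.{u}} [IsAffine W] (g : W ⟶ S) {M : Type} [inst : AddCommGroup M], Q M inst →
      (Grp.mk (Red.bc g R) ≅ Grp.mk (Red.DS W M)) →
      Flat ((Over.pullback g).map (pw R k)).left ∧ Surjective ((Over.pullback g).map (pw R k)).left := by
    intro W _ g M inst hM e
    haveI : IsMonHom e.hom.hom.hom := e.hom.hom.isMonHom_hom
    let e₀ : Red.bc g R ≅ Red.DS W M := (Grp.forget _).mapIso e
    obtain ⟨h5, h6, -⟩ := GrothLib.QuotTorus14.dsmap_fppf (W := W) hM.1 hM.1 (k • AddMonoidHom.id M)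
      ((injective_iff_map_eq_zero _).2 hM.2)
    have hh : (Over.pullback g).map (pw R k) = e₀.hom ≫ Red.DSmap W (k • AddMonoidHom.id M) ≫ e₀.inv := by
      rw [map_pw, ← pw_DS, ← Category.assoc, Iso.eq_comp_inv]
      exact pw_comp e.hom.hom.hom k
    rw [hh, Over.comp_left, Over.comp_left]
    exact ⟨inferInstance, inferInstance⟩
  haveI := EssFree.isAffineHom_of_charts hQ
  haveI := quasiCompact_left (pw R k)
  haveI : Flat (pw R k).left := by
    haveI := HasRingHomProperty.descendsAlong_flat (P := @Flat) GrothLib.AlgSp.codescendsAlong_flat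
    exact of_charts @Flat (G := R) Q hQ (pw R k) fun {W} _ g {M} _ hM e => (hchart g hM e).1
  haveI : Surjective (pw R k).left :=
    of_charts @Surjective (G := R) Q hQ (pw R k) fun {W} _ g {M} _ hM e => (hchart g hM e).2
  exact GrothLib.SubTorus14.dominant_of_fpqc _

variable (H : Over S) [GrpObj H]

/-- The ideal of the stable image of the power maps. -/
def stableIdeal : H.left.IdealSheafData := ⨆ n : ℕ, (pw H n.factorial).left.ker

/-- The stable image of the power maps. -/
def stable : Over S := Over.mk ((stableIdeal H).subschemeι ≫ H.hom)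

/-- Its inclusion. -/
def incl : stable H ⟶ H := Over.homMk (stableIdeal H).subschemeι rfl

instance : IsClosedImmersion (incl H).left := inferInstanceAs (IsClosedImmersion (stableIdeal H).subschemeι)

instance : Mono (incl H) := (Over.forget S).mono_of_mono_map (inferInstanceAs (Mono (stableIdeal H).subschemeι))

theorem exists_lift {Y : Over S} (z : Y ⟶ H) (h : stableIdeal H ≤ z.left.ker) : ∃ y : Y ⟶ stable H, y ≫ incl H = z := by
  have h' : (incl H).left.ker ≤ z.left.ker := (Scheme.IdealSheafData.ker_subschemeι _).trans_le h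
  let y₀ := IsClosedImmersion.lift (incl H).left z.left h'
  have hy : y₀ ≫ (incl H).left = z.left := IsClosedImmersion.lift_fac _ _ _
  refine ⟨Over.homMk y₀ ?_, Over.OverMorphism.ext hy⟩
  rw [← Over.w (incl H), ← Category.assoc, hy, Over.w]

/-- Points of tori lie in the stable image. -/
theorem exists_lift_of_torus {Y : Over S} (z : Y ⟶ H) (σ : ℕ → (Y.left ⟶ Y.left))
    (hσ : ∀ n, IsSchemeTheoreticallyDominant (σ n)) (h : ∀ n, σ n ≫ z.left = (z ≫ pw H n.factorial).left) :
    ∃ y : Y ⟶ stable H, y ≫ incl H = z := by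
  refine exists_lift H z (iSup_le fun n => ?_)
  haveI := hσ n
  refine ((z.left).le_ker_comp (pw H n.factorial).left).trans ?_
  rw [← Over.comp_left, ← h n, Scheme.Hom.ker_comp, (σ n).ker_eq_bot, Scheme.IdealSheafData.map_bot]

theorem exists_lift_subtorus {R : Over S} [GrpObj R] (j : R ⟶ H) [IsMonHom j] (hR : Red.IsTorus R) :
    ∃ y : R ⟶ stable H, y ≫ incl H = j :=
  exists_lift_of_torus H j (fun n => (pw R n.factorial).left)
    (fun n => dominant_pw hR n.factorial_ne_zero) fun n => by rw [← Over.comp_left, pw_comp]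

theorem exists_lift_torus_bc {W : Scheme.{u}} (f : W ⟶ S) {R : Over W} [GrpObj R] (j : R ⟶ Red.bc f H) [IsMonHom j]
    (hR : Red.IsTorus R) : ∃ y : R ⟶ Red.bc f (stable H), y ≫ (Over.pullback f).map (incl H) = j := by
  obtain ⟨y, hy⟩ := exists_lift_of_torus H ((bcPoint f H R).symm j) (fun n => (pw R n.factorial).left)
    (fun n => dominant_pw hR n.factorial_ne_zero) fun n => by
      have h : (Over.map f).map (pw R n.factorial) ≫ (bcPoint f H R).symm j =
          (bcPoint f H R).symm j ≫ pw H n.factorial := by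
        apply (bcPoint f H R).injective
        rw [bcPoint_comp, bcPoint_comp_right, Equiv.apply_symm_apply, map_pw, pw_comp]
      exact congrArg (fun t => t.left) h
  exact ⟨bcPoint f _ R y, by rw [← bcPoint_comp_right, hy, Equiv.apply_symm_apply]⟩

variable {H}

/-- On a chart the stable image is the torus `D(N M)`. -/
theorem exists_chart (hH : SGA3x.IsMultTypeFT H) {W : Scheme.{u}} (f : W ⟶ S) [Flat f] {M : Type} [AddCommGroup M]
    (hM : AddGroup.FG M) (e : Grp.mk (Red.bc f H) ≅ Grp.mk (Red.DS W M)) :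
    ∃ (r : ℕ) (d : Red.DS W (Fin r → ℤ) ⟶ Red.bc f H) (φ : Red.bc f (stable H) ≅ Red.DS W (Fin r → ℤ)),
      IsMonHom d ∧ φ.hom ≫ d = (Over.pullback f).map (incl H) := by
  haveI := EssFree.isAffineHom_of_charts (hasChartsFpqc_of_isMultTypeFT hH)
  haveI : IsAffineHom (Red.bc f H).hom := MorphismProperty.pullback_snd H.hom f inferInstance
  haveI : IsMonHom e.hom.hom.hom := e.hom.hom.isMonHom_hom
  haveI : IsMonHom e.inv.hom.hom := e.inv.hom.isMonHom_hom
  let e₀ : Red.bc f H ≅ Red.DS W M := (Grp.forget _).mapIso e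
  haveI : Module.Finite ℤ M := Module.Finite.iff_addGroup_fg.mpr hM
  obtain ⟨n₀, hn₀, htors⟩ : ∃ n₀ : ℕ, n₀ ≠ 0 ∧ ∀ x : M, IsOfFinAddOrder x → n₀ • x = 0 := by
    let T := Submodule.torsion ℤ M
    haveI : Module.Finite ℤ T := Module.Finite.of_fg (IsNoetherian.noetherian T)
    haveI : Finite T := Module.finite_of_fg_torsion T Submodule.torsion_isTorsion
    refine ⟨Nat.card T, Nat.card_pos.ne', fun x hx => ?_⟩
    obtain ⟨m, hm, hmx⟩ := isOfFinAddOrder_iff_nsmul_eq_zero.1 hx
    have hxT : x ∈ T := ⟨⟨(m : ℤ), mem_nonZeroDivisors_of_ne_zero (by exact_mod_cast hm.ne')⟩, by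
      rw [Submonoid.mk_smul, natCast_zsmul]; exact hmx⟩
    exact congrArg Subtype.val (card_nsmul_eq_zero' (x := (⟨x, hxT⟩ : T)))
  let N := n₀.factorial
  have hN : ∀ x : M, IsOfFinAddOrder x → N • x = 0 := fun x hx => by
    obtain ⟨c, hc⟩ := Nat.dvd_factorial (Nat.pos_of_ne_zero hn₀) le_rfl
    rw [show N = c * n₀ from hc.trans (Nat.mul_comm _ _), mul_smul, htors x hx, smul_zero]
  let Δ := (N • AddMonoidHom.id M).range
  have hfree : ∀ (m : ℕ), m ≠ 0 → ∀ y : Δ, m • y = 0 → y = 0 := by
    rintro m hm ⟨_, x, rfl⟩ hy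
    have hy' : m • (N • x) = 0 := congrArg Subtype.val hy
    have hx : IsOfFinAddOrder x := isOfFinAddOrder_iff_nsmul_eq_zero.2
      ⟨m * N, Nat.pos_of_ne_zero (Nat.mul_ne_zero hm n₀.factorial_ne_zero), by rw [mul_smul]; exact hy'⟩
    exact Subtype.ext (hN x hx)
  haveI : Module.Finite ℤ Δ := Module.Finite.iff_addGroup_fg.mpr (GrothLib.SubTorus14.fg_subgroup hM Δ)
  haveI : IsAddTorsionFree Δ := ⟨fun {m} hm a b hab => sub_eq_zero.1 (hfree m hm _ (by
    rw [smul_sub, sub_eq_zero]; exact hab))⟩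
  let r := Module.finrank ℤ Δ
  let β : (Fin r → ℤ) ≃+ Δ := (Module.finBasis ℤ Δ).equivFun.symm.toAddEquiv
  have hr : AddGroup.FG (Fin r → ℤ) := fg_int_pi r
  let ψ : M →+ Fin r → ℤ := β.symm.toAddMonoidHom.comp (N • AddMonoidHom.id M).rangeRestrict
  have hψ : Function.Surjective ψ := β.symm.surjective.comp (AddMonoidHom.rangeRestrict_surjective _)
  let d : Red.DS W (Fin r → ℤ) ⟶ Red.bc f H := Red.DSmap W ψ ≫ e₀.inv
  haveI : IsMonHom e₀.inv := ‹IsMonHom e.inv.hom.hom›
  haveI hdm : IsMonHom d := inferInstance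
  haveI : Mono (Red.DSmap W ψ) := (Over.forget W).mono_of_mono_map (charCond_mono.dsmap ψ hψ W)
  haveI : Mono d := mono_comp _ _
  haveI hdc : IsClosedImmersion d.left :=
    MultDef14.isClosedImmersion_of_mono (SubTorus14.isMultTypeFT_DS W hr) inferInstance d
  have hfac : ∀ n : ℕ, n₀ ≤ n → ∃ c : Red.bc f H ⟶ Red.DS W (Fin r → ℤ),
      IsSchemeTheoreticallyDominant c.left ∧ c ≫ d = (Over.pullback f).map (pw H n.factorial) := by
    intro n hn
    obtain ⟨q, hq⟩ := Nat.factorial_dvd_factorial hn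
    have hq0 : q ≠ 0 := by rintro rfl; exact n.factorial_ne_zero (by simpa using hq)
    let φ : (Fin r → ℤ) →+ M := (q • Δ.subtype).comp β.toAddMonoidHom
    have hφ : Function.Injective φ := (injective_iff_map_eq_zero _).2 fun x hx => by
      have h' : q • β x = 0 := Subtype.ext hx
      simpa using hfree q hq0 _ h'
    have hcomp : φ.comp ψ = n.factorial • AddMonoidHom.id M := AddMonoidHom.ext fun x => by
      have h1 : β (β.symm ((N • AddMonoidHom.id M).rangeRestrict x)) = (N • AddMonoidHom.id M).rangeRestrict x :=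
        β.apply_symm_apply _
      change q • ((β (β.symm ((N • AddMonoidHom.id M).rangeRestrict x)) : Δ) : M) = n.factorial • x
      rw [h1, hq, Nat.mul_comm, mul_smul]
      rfl
    obtain ⟨h5, h6, -⟩ := GrothLib.QuotTorus14.dsmap_fppf (W := W) hM hr φ hφ
    haveI := EssFree.isAffineHom_multTypeFT _ (SubTorus14.isMultTypeFT_DS W hr)
    haveI := EssFree.isAffineHom_multTypeFT _ (SubTorus14.isMultTypeFT_DS W hM)
    refine ⟨e₀.hom ≫ Red.DSmap W φ, ?_, ?_⟩
    · haveI : Flat (e₀.hom ≫ Red.DSmap W φ).left := by rw [Over.comp_left]; infer_instance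
      haveI : Surjective (e₀.hom ≫ Red.DSmap W φ).left := by rw [Over.comp_left]; infer_instance
      haveI := quasiCompact_left (e₀.hom ≫ Red.DSmap W φ)
      exact GrothLib.SubTorus14.dominant_of_fpqc _
    · rw [map_pw, Category.assoc, ← Category.assoc (Red.DSmap W φ), GrothLib.Torsor21.DSmap_comp, hcomp, ← pw_DS,
        ← Category.assoc, Iso.comp_inv_eq]
      exact (pw_comp e.hom.hom.hom n.factorial).symm
  have hkpow : ∀ n : ℕ, ((pw H n.factorial).left.ker).comap (pullback.fst H.hom f) =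
      ((Over.pullback f).map (pw H n.factorial)).left.ker := fun n => by
    haveI := quasiCompact_left (pw H n.factorial)
    exact (GrothLib.AlgSp.ker_comap_of_flat (isPullback_overMap (pw H n.factorial) f).flip).symm
  have hbig : ∀ n : ℕ, n₀ ≤ n → ((Over.pullback f).map (pw H n.factorial)).left.ker = d.left.ker := fun n hn => by
    obtain ⟨c, hc, hcd⟩ := hfac n hn
    rw [← hcd, Over.comp_left, Scheme.Hom.ker_comp, c.left.ker_eq_bot, Scheme.IdealSheafData.map_bot]
  have hmono : ∀ n : ℕ, (pw H n.factorial).left.ker ≤ (pw H (max n n₀).factorial).left.ker := fun n => by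
    obtain ⟨q, hq⟩ := Nat.factorial_dvd_factorial (le_max_left n n₀)
    have h : pw H (max n n₀).factorial = pw H q ≫ pw H n.factorial := by
      rw [comp_pw, pw, pw, ← pow_mul, hq, Nat.mul_comm]
    rw [h, Over.comp_left]
    exact Scheme.Hom.le_ker_comp _ _
  have hker : ((Over.pullback f).map (incl H)).left.ker = d.left.ker := by
    rw [GrothLib.AlgSp.ker_comap_of_flat (isPullback_overMap (incl H) f).flip,
      show (incl H).left.ker = stableIdeal H from Scheme.IdealSheafData.ker_subschemeι _, stableIdeal,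
      (Scheme.IdealSheafData.map_gc (pullback.fst H.hom f)).l_iSup]
    refine le_antisymm (iSup_le fun n => ?_) (le_iSup_of_le n₀ ?_)
    · rw [← hbig _ (le_max_right n n₀), ← hkpow]
      exact Scheme.IdealSheafData.comap_mono (pullback.fst H.hom f) (hmono n)
    · rw [hkpow, hbig _ le_rfl]
  haveI : IsClosedImmersion ((Over.pullback f).map (incl H)).left :=
    MorphismProperty.overPullbackMap f (incl H) inferInstance
  let y₀ := IsClosedImmersion.lift d.left ((Over.pullback f).map (incl H)).left hker.ge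
  have hy₀ : y₀ ≫ d.left = ((Over.pullback f).map (incl H)).left := IsClosedImmersion.lift_fac _ _ _
  haveI : IsIso y₀ := IsClosedImmersion.isIso_of_ker_eq _ _ y₀ hy₀ hker
  exact ⟨r, d, Over.isoMk (asIso y₀) (by
    change y₀ ≫ _ = _
    rw [← Over.w d, ← Category.assoc, hy₀]
    exact Over.w _), hdm, Over.OverMorphism.ext hy₀⟩

/-- The stable image is a subgroup. -/
theorem exists_grpObj_stable (hH : SGA3x.IsMultTypeFT H) :
    ∃ _ : GrpObj (stable H), IsMonHom (incl H) := by
  let Pc : ∀ (W : Scheme.{u}), (W ⟶ S) → Prop := fun W f => HasChart fgM H f ∧ Flat f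
  have hcov : ∀ V : S.Opens, IsAffineOpen V → CoverBy Pc V := fun V hV => by
    obtain ⟨W, q, h1, h2, h3, h4⟩ := (hasChartsFpqc_of_isMultTypeFT hH).coverBy V hV
    refine ⟨W, q, h1, h2, h3, fun w => ?_⟩
    obtain ⟨R, hwR, hRa, hR⟩ := h4 w
    exact ⟨R, hwR, hRa, hR, inferInstance⟩
  have test : ∀ {Y : Over S} (z : Y ⟶ H), (∀ {W : Scheme.{u}} (f : W ⟶ S) (r : ℕ)
      (d : Red.DS W (Fin r → ℤ) ⟶ Red.bc f H) (φ : Red.bc f (stable H) ≅ Red.DS W (Fin r → ℤ)),
      IsMonHom d → φ.hom ≫ d = (Over.pullback f).map (incl H) →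
      ∃ y, y ≫ d = (Over.pullback f).map z) → ∃ y, y ≫ incl H = z := by
    intro Y z hz
    have hF : Factor z (incl H) (Scheme.Opens.ι (⊤ : S.Opens)) := factor_of_coverBy z (incl H) hcov ⊤ fun {W} _ f hP _ => by
      obtain ⟨⟨M, _, hM, ⟨e⟩⟩, hf⟩ := hP
      haveI := hf
      obtain ⟨r, d, φ, hd, hφ⟩ := exists_chart hH f hM e
      obtain ⟨y, hy⟩ := hz f r d φ hd hφ
      exact (factor_iff_exists z (incl H) f).mpr ⟨y ≫ φ.inv, by rw [Category.assoc, ← hφ, Iso.inv_hom_id_assoc, hy]⟩
    obtain ⟨y, hy⟩ := hF Y (Y.hom ≫ S.topIso.inv) (by rw [Category.assoc, ← Scheme.topIso_hom, Iso.inv_hom_id, Category.comp_id])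
      (𝟙 Y)
    exact ⟨y, hy.trans (Category.id_comp z)⟩
  refine GrothLib.EssFree.exists_grpObj_of_mono (incl H) (fun T => test 1 fun {W} f r d φ hd hφ => ⟨1, ?_⟩)
    (fun T a b => test _ fun {W} f r d φ hd hφ =>
      ⟨((Over.pullback f).map a ≫ φ.hom) * ((Over.pullback f).map b ≫ φ.hom), ?_⟩)
    (fun T a => test _ fun {W} f r d φ hd hφ => ⟨((Over.pullback f).map a ≫ φ.hom)⁻¹, ?_⟩)
  · rw [MonObj.one_comp, Functor.map_one]
  · rw [MonObj.mul_comp, Category.assoc, Category.assoc, hφ, Functor.map_mul, Functor.map_comp, Functor.map_comp]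
  · rw [GrpObj.inv_comp, Category.assoc, hφ, Functor.map_inv', Functor.map_comp]

/-- A group of multiplicative type has a maximal torus containing every subtorus. -/
theorem exists_maximalTorus (hH : SGA3x.IsMultTypeFT H) :
    ∃ (T : Over S) (_ : GrpObj T) (i : T ⟶ H), Red.IsMaximalTorus i ∧
      ∀ (R : Over S) [GrpObj R] (j : R ⟶ H) [IsMonHom j] [Mono j], Red.IsTorus R → ∃ f : R ⟶ T, f ≫ i = j := by
  obtain ⟨grp, hi⟩ := exists_grpObj_stable hH
  letI := grp
  haveI := hi
  refine ⟨stable H, grp, incl H, ⟨hi, inferInstance, ?_, ?_⟩, fun R _ j _ _ hR => exists_lift_subtorus H j hR⟩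
  · obtain ⟨S', π, h1, h2, h3, h4⟩ := hH
    haveI := h1
    refine ⟨S', π, h1, h2, h3, fun s' => ?_⟩
    obtain ⟨U, hU, M, instM, hM, ⟨e⟩⟩ := h4 s'
    obtain ⟨r, d, φ, hd, hφ⟩ := exists_chart ⟨S', π, h1, h2, h3, h4⟩ (U.ι ≫ π) hM e
    haveI : Mono ((Over.pullback (U.ι ≫ π)).map (incl H)) :=
      haveI : (Over.pullback (U.ι ≫ π)).IsRightAdjoint := (Over.mapPullbackAdj _).isRightAdjoint
      inferInstance
    haveI : Mono d := by
      have : d = φ.inv ≫ (Over.pullback (U.ι ≫ π)).map (incl H) := by rw [← hφ, Iso.inv_hom_id_assoc]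
      rw [this]; infer_instance
    haveI : IsMonHom (φ.hom ≫ d) := by rw [hφ]; infer_instance
    haveI : IsMonHom φ.hom := GrothLib.DiagGrp.isMonHom_of_comp_mono φ.hom d
    exact ⟨U, hU, r, ⟨Grp.mkIso' φ⟩⟩
  · intro s T' _ j _ _ f hT' hf
    obtain ⟨g, hg⟩ := exists_lift_torus_bc H (Red.geomPt s) j hT'
    haveI : Mono ((Over.pullback (Red.geomPt s)).map (incl H)) :=
      haveI : (Over.pullback (Red.geomPt s)).IsRightAdjoint := (Over.mapPullbackAdj _).isRightAdjoint
      inferInstance
    refine ⟨g, ?_, ?_⟩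
    · rw [← cancel_mono ((Over.pullback (Red.geomPt s)).map (incl H)), Category.assoc, hg, hf, Category.id_comp]
    · rw [← cancel_mono j, Category.assoc, hf, hg, Category.id_comp]

end GrothLib.MultMaxTorus14
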